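import Groth.Agent.Lib.FinTrace9.Basic
import Groth.Agent.Lib.Weight4.Basic
import Mathlib.AlgebraicGeometry.Morphisms.FlatRank

/-!
# Weights of lifts under composition and base change
-/

set_option autoImplicit false

universe u

open CategoryTheory CategoryTheory.Limits AlgebraicGeometry Opposite
open Groth.Agent.EtStalk Groth.Agent.Weight

noncomputable section

namespace Groth.Agent.FinTrace9

/-- The multiplicity is multiplicative for flat morphisms on the left. -/
theorem wt_comp {X Y S : Scheme.{u}} (h : X ⟶ Y) (g : Y ⟶ S) [Flat h] (x : X)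
    (hg : g.QuasiFiniteAt (h x)) : wt (h ≫ g) x = wt g (h x) * wt h x := by
  rw [wt_eq, wt_eq, wt_eq, lenFib_stalkMap_comp, lenFib_comp _ _ (Flat.stalkMap h x),
    insDeg_comp h g x (isAlgebraic_residueFieldMap g _ hg), ENat.toNat_mul]
  push_cast
  ring

section Unique

variable {Z V : Scheme.{u}} (π : Z ⟶ V) [IsFinite π] [Flat π] {Ω : Type u} [Field Ω] [IsAlgClosed Ω]

/-- Over a geometric point with a single lift the weight of the lift is the rank. -/
theorem wt_eq_finrank (a : Spec (CommRingCat.of Ω) ⟶ Z)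
    (hu : ∀ b : Spec (CommRingCat.of Ω) ⟶ Z, b ≫ π = a ≫ π → b = a) :
    wt π (pt a) = π.finrank (pt (a ≫ π)) := by
  rw [← fibreIntegral_wt_eq_finrank π (pt (a ≫ π)),
    fibreIntegral_eq π (fun z => π.quasiFiniteAt z) (wt π) (a ≫ π) _ rfl (π.finite_preimage_singleton _)]
  exact (finsum_eq_single (fun b : {b : Spec (CommRingCat.of Ω) ⟶ Z // b ≫ π = a ≫ π} => wt π (pt b.1))
    ⟨a, rfl⟩ fun b hb => absurd (Subtype.ext (hu b.1 b.2)) hb).symm

end Unique

section BC

variable {X S X' S' : Scheme.{u}} {f : X ⟶ S} {g : S' ⟶ S} {f' : X' ⟶ S'} {g' : X' ⟶ X}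
  [IsFinite f] [Flat f] {Ω : Type u} [Field Ω] [IsAlgClosed Ω]

/-- The weight of a geometric lift is unchanged by base change. -/
theorem wt_baseChange (hc : IsPullback g' f' f g) (η' : Spec (CommRingCat.of Ω) ⟶ S') (l' : fLifts f' η') :
    wt f' (pt l'.1) = wt f (pt (l'.1 ≫ g')) := by
  classical
  haveI : IsFinite f' := MorphismProperty.of_isPullback hc ‹IsFinite f›
  haveI : Flat f' := MorphismProperty.of_isPullback hc ‹Flat f›
  let η := η' ≫ g
  let l : fLifts f η := ⟨l'.1 ≫ g', by rw [Category.assoc, hc.w, ← Category.assoc, l'.2]⟩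
  obtain ⟨U, g₀, ū, P, hg₀, hū, hpart, hP⟩ := FiniteSplit.exists_parts f η
  haveI : IsClosedImmersion (P l).ι := IsClosedImmersion.of_isPreimmersion _ (by
    rw [Scheme.Opens.range_ι]
    have h : (P l : Set (pullback f g₀ : Scheme.{u}))ᶜ =
        ⋃ l' : {l' // l' ≠ l}, (P l'.1 : Set (pullback f g₀ : Scheme.{u})) := by
      ext z
      obtain ⟨l₁, h₁, h₂⟩ := hpart z
      refine ⟨fun hz => Set.mem_iUnion.2 ⟨⟨l₁, fun (e : l₁ = l) => hz (e ▸ h₁)⟩, h₁⟩, fun h hz => ?_⟩
      obtain ⟨⟨l', hne⟩, hl'⟩ := Set.mem_iUnion.1 h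
      exact hne ((h₂ l' hl').trans (h₂ l hz).symm)
    rw [← isOpen_compl_iff, h]
    exact isOpen_iUnion fun l' => (P l'.1).2)
  let U' := pullback g g₀
  let q : U' ⟶ U := pullback.snd g g₀
  let p₁ : U' ⟶ S' := pullback.fst g g₀
  haveI : AlgebraicGeometry.Etale p₁ := MorphismProperty.pullback_fst g g₀ hg₀
  let ū' : Spec (CommRingCat.of Ω) ⟶ U' := pullback.lift η' ū hū.symm
  let sd := pullback.snd f' p₁
  let κ : pullback f' p₁ ⟶ pullback f g₀ :=
    pullback.lift (pullback.fst f' p₁ ≫ g') (sd ≫ q)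
      (by rw [Category.assoc, hc.w, ← Category.assoc, pullback.condition, Category.assoc, Category.assoc,
        pullback.condition])
  have hκ1 : κ ≫ pullback.fst f g₀ = pullback.fst f' p₁ ≫ g' := pullback.lift_fst _ _ _
  have hκ2 : κ ≫ pullback.snd f g₀ = sd ≫ q := pullback.lift_snd _ _ _
  have hbig : IsPullback κ sd (pullback.snd f g₀) q := by
    refine IsPullback.of_right (h₁₂ := pullback.fst f g₀) (v₁₃ := f) (h₂₂ := g₀) ?_ hκ2
      (IsPullback.of_hasPullback f g₀)
    rw [hκ1, ← pullback.condition (f := g) (g := g₀)]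
    exact (IsPullback.of_hasPullback f' p₁).paste_horiz hc
  let Q := κ ⁻¹ᵁ P l
  let π := (P l).ι ≫ pullback.snd f g₀
  let π' := Q.ι ≫ sd
  have hsmall : IsPullback (κ ∣_ P l) π' π q := (isPullback_morphismRestrict κ (P l)).paste_vert hbig
  haveI : IsFinite π := inferInstance
  haveI : Flat π := inferInstance
  haveI : IsFinite π' := MorphismProperty.of_isPullback hsmall ‹IsFinite π›
  haveI : Flat π' := MorphismProperty.of_isPullback hsmall ‹Flat π›
  -- the lift in the base change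
  let b : Spec (CommRingCat.of Ω) ⟶ pullback f g₀ :=
    pullback.lift l.1 ū (by rw [l.2, hū])
  have hbs : b ≫ pullback.snd f g₀ = ū := pullback.lift_snd _ _ _
  have hb : pt b ∈ P l := (hP l b hbs).2 (pullback.lift_fst _ _ _)
  let a : Spec (CommRingCat.of Ω) ⟶ (P l : Scheme.{u}) := liftOpen (P l) b hb
  have haπ : a ≫ π = ū := by rw [← Category.assoc, liftOpen_ι, hbs]
  have hua : ∀ c : Spec (CommRingCat.of Ω) ⟶ (P l : Scheme.{u}), c ≫ π = a ≫ π → c = a := fun c hc' => by
    rw [haπ, ← Category.assoc] at hc'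
    rw [← cancel_mono (P l).ι, liftOpen_ι]
    exact pullback.hom_ext (((hP l _ hc').1 (c (IsLocalRing.closedPoint Ω)).2).trans (pullback.lift_fst _ _ _).symm)
      (hc'.trans hbs.symm)
  let a' : Spec (CommRingCat.of Ω) ⟶ (Q : Scheme.{u}) :=
    hsmall.lift a ū' (by rw [haπ]; exact (pullback.lift_snd _ _ _).symm)
  have ha'1 : a' ≫ (κ ∣_ P l) = a := hsmall.lift_fst _ _ _
  have ha'2 : a' ≫ π' = ū' := hsmall.lift_snd _ _ _
  have hua' : ∀ c : Spec (CommRingCat.of Ω) ⟶ (Q : Scheme.{u}), c ≫ π' = a' ≫ π' → c = a' := fun c hc' => by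
    refine hsmall.hom_ext ?_ hc'
    rw [ha'1]
    refine hua _ ?_
    rw [Category.assoc, hsmall.w, ← Category.assoc, hc', ha'2, haπ]
    exact pullback.lift_snd _ _ _
  have haf : a ≫ (P l).ι ≫ pullback.fst f g₀ = l.1 := by
    rw [← Category.assoc, liftOpen_ι]
    exact pullback.lift_fst _ _ _
  have ha'f : a' ≫ Q.ι ≫ pullback.fst f' p₁ = l'.1 := by
    refine hc.hom_ext ?_ ?_
    · rw [Category.assoc, Category.assoc, ← hκ1, ← Category.assoc Q.ι κ, ← morphismRestrict_ι κ (P l),
        Category.assoc, ← Category.assoc a', ha'1, haf]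
    · rw [Category.assoc, Category.assoc, pullback.condition, ← Category.assoc Q.ι, ← Category.assoc a', ha'2, l'.2]
      exact pullback.lift_fst _ _ _
  haveI : AlgebraicGeometry.Etale (pullback.fst f g₀) := MorphismProperty.pullback_fst f g₀ hg₀
  haveI : AlgebraicGeometry.Etale (pullback.fst f' p₁) :=
    MorphismProperty.pullback_fst f' p₁ (inferInstance : AlgebraicGeometry.Etale p₁)
  have e1 : wt π (pt a) = wt f (pt l.1) := by
    rw [wt_of_commSq (f := f) (f' := π) (j := (P l).ι ≫ pullback.fst f g₀) (g := g₀)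
      (by rw [Category.assoc, Category.assoc, pullback.condition]), ← pt_comp, haf]
  have e2 : wt π' (pt a') = wt f' (pt l'.1) := by
    rw [wt_of_commSq (f := f') (f' := π') (j := Q.ι ≫ pullback.fst f' p₁) (g := p₁)
      (by rw [Category.assoc, Category.assoc, pullback.condition]), ← pt_comp, ha'f]
  rw [← e2, wt_eq_finrank π' a' hua', Scheme.Hom.finrank_of_isPullback _ _ _ _ hsmall, ← pt_comp,
    Category.assoc, ← hsmall.w, ← Category.assoc, ha'1, ← wt_eq_finrank π a hua]
  exact e1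

end BC

end Groth.Agent.FinTrace9

end
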