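import Groth.Agent.Lib.FinTrace9.Stalk
import Groth.Agent.Lib.FinTrace9.Weights

/-!
# Compatibility of the trace with composition and base change
-/

set_option autoImplicit false

universe u

open CategoryTheory CategoryTheory.Limits AlgebraicGeometry Opposite
open Groth.Agent.EtStalk Groth.Agent.Weight

noncomputable section

namespace Groth.Agent.FinTrace9

variable {X Y S : Scheme.{u}}

/-- Morphisms of sheaves agreeing on stalks at points with algebraically closed fields are equal. -/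
theorem hom_ext_stalk {F G : EtCoh.Ab S} {a b : F ⟶ G}
    (h : ∀ (Ω : Type u) [Field Ω] [IsAlgClosed Ω] (ξ : Spec (CommRingCat.of Ω) ⟶ S)
      (p : (EtCoh.stalk ξ).obj F), (EtCoh.stalk ξ).map a p = (EtCoh.stalk ξ).map b p) : a = b := by
  refine Sheaf.hom_ext (NatTrans.ext (funext fun W => AddCommGrpCat.ext fun s => ?_))
  refine eq_of_agree G fun x => ?_
  obtain ⟨Ω, _, _, ξ, φ, rfl⟩ := exists_algFib W.unop x
  rw [mem_agree_iff_germ]
  refine (germ_nat ξ a φ s).symm.trans (Eq.trans ?_ (germ_nat ξ b φ s))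
  exact h Ω ξ _

theorem stalk_tr (f : X ⟶ S) [IsFinite f] [Flat f] [LocallyOfFinitePresentation f] (F : EtCoh.Ab S)
    {Ω : Type u} [Field Ω] [IsAlgClosed Ω] (ξ : Spec (CommRingCat.of Ω) ⟶ S)
    (p : (EtCoh.stalk ξ).obj ((EtCoh.push f).obj ((EtCoh.pull f).obj F))) :
    (EtCoh.stalk ξ).map ((tr f).app F) p = T f ξ F p := by
  obtain ⟨W, φ, t, rfl⟩ := germ_surjective _ _ p
  refine (germ_nat ξ ((tr f).app F) φ t).trans ?_
  exact isTr_trSec f F W t Ω ξ φ

theorem tr_comp (h : X ⟶ Y) (g : Y ⟶ S) [IsFinite h] [Flat h] [LocallyOfFinitePresentation h]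
    [IsFinite g] [Flat g] [LocallyOfFinitePresentation g]
    [IsFinite (h ≫ g)] [Flat (h ≫ g)] [LocallyOfFinitePresentation (h ≫ g)] (F : EtCoh.Ab S) :
    (tr (h ≫ g)).app F =
      (EtCoh.push (h ≫ g)).map ((EtCore.pullComp h g).hom.app F) ≫
        (EtCoh.pushComp g h).inv.app ((EtCoh.pull h).obj ((EtCoh.pull g).obj F)) ≫
        (EtCoh.push g).map ((tr h).app ((EtCoh.pull g).obj F)) ≫ (tr g).app F := by
  classical
  refine hom_ext_stalk fun Ω _ _ ξ p => ?_
  rw [Functor.map_comp, Functor.map_comp, Functor.map_comp, ConcreteCategory.comp_apply,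
    ConcreteCategory.comp_apply, ConcreteCategory.comp_apply, stalk_tr, stalk_tr, T_apply, T_apply]
  have h1 : ∀ m : fLifts g ξ,
      wt g (pt m.1) • elInv g ξ F m (liftStalk g ξ m ((EtCoh.pull g).obj F)
        ((EtCoh.stalk ξ).map ((EtCoh.push g).map ((tr h).app ((EtCoh.pull g).obj F)))
          ((EtCoh.stalk ξ).map ((EtCoh.pushComp g h).inv.app ((EtCoh.pull h).obj ((EtCoh.pull g).obj F)))
            ((EtCoh.stalk ξ).map ((EtCoh.push (h ≫ g)).map ((EtCore.pullComp h g).hom.app F)) p)))) =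
      ∑ k : fLifts h m.1, wt (h ≫ g) (pt (compLift h g ξ m k).1) • elInv (h ≫ g) ξ F (compLift h g ξ m k)
        (liftStalk (h ≫ g) ξ (compLift h g ξ m k) ((EtCoh.pull (h ≫ g)).obj F) p) := fun m => by
    refine (congrArg (fun y => wt g (pt m.1) • elInv g ξ F m y) ((liftStalk_nat g ξ m
      ((tr h).app ((EtCoh.pull g).obj F)) _).trans ((stalk_tr h ((EtCoh.pull g).obj F) m.1 _).trans
        (T_apply h m.1 ((EtCoh.pull g).obj F) _)))).trans ?_
    rw [map_sum, Finset.smul_sum]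
    refine Finset.sum_congr rfl fun k _ => ?_
    rw [map_zsmul, smul_smul]
    have hw : wt (h ≫ g) (pt (compLift h g ξ m k).1) = wt g (pt m.1) * wt h (pt k.1) := by
      show wt (h ≫ g) (pt k.1) = _
      rw [wt_comp h g (pt k.1) (g.quasiFiniteAt _), ← pt_comp, k.2]
    rw [hw]
    refine congrArg ((wt g (pt m.1) * wt h (pt k.1)) • ·) ?_
    obtain ⟨q, hq⟩ := (el_bijective (h ≫ g) ξ F (compLift h g ξ m k)).2
      (liftStalk (h ≫ g) ξ (compLift h g ξ m k) ((EtCoh.pull (h ≫ g)).obj F) p)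
    have hy := (liftStalk_pushComp_inv h g ξ ((EtCoh.pull h).obj ((EtCoh.pull g).obj F)) m k _).trans
      (liftStalk_nat (h ≫ g) ξ (compLift h g ξ m k) ((EtCore.pullComp h g).hom.app F) p)
    refine (congrArg (fun y => elInv g ξ F m (elInv h m.1 ((EtCoh.pull g).obj F) k y))
      (hy.trans ((congrArg ((EtCoh.stalk k.1).map ((EtCore.pullComp h g).hom.app F)) hq.symm).trans
        (el_pullComp_hom h g ξ F m k q)))).trans ?_
    rw [elInv_el, elInv_el, ← hq, elInv_el]
  refine Eq.trans ?_ (Finset.sum_congr rfl fun m _ => h1 m).symm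
  refine Eq.trans ?_ (Finset.sum_sigma' Finset.univ (fun _ => Finset.univ) _).symm
  refine (Finset.sum_bij (fun (x : Σ m : fLifts g ξ, fLifts h m.1) _ => compLift h g ξ x.1 x.2)
    (fun _ _ => Finset.mem_univ _) (fun a _ b _ hab => ?_)
    (fun l _ => ⟨⟨midLift h g ξ l, topLift h g ξ l⟩, by simp, rfl⟩) (fun _ _ => rfl)).symm
  obtain ⟨⟨m, hm⟩, k, hk⟩ := a
  obtain ⟨⟨m', hm'⟩, k', hk'⟩ := b
  obtain rfl : k = k' := congrArg Subtype.val hab
  obtain rfl : m = m' := hk.symm.trans hk'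
  rfl

theorem tr_baseChange {X' S' : Scheme.{u}} (f : X ⟶ S) (g : S' ⟶ S) (f' : X' ⟶ S') (g' : X' ⟶ X)
    (hc : IsPullback g' f' f g) [IsFinite f] [Flat f] [LocallyOfFinitePresentation f]
    [IsFinite f'] [Flat f'] [LocallyOfFinitePresentation f'] (F : EtCoh.Ab S) :
    EtCoh.baseChange0 f g f' g' hc.w ((EtCoh.pull f).obj F) ≫
      (EtCoh.push f').map ((EtCore.pullComp g' f).inv.app F ≫ (EtCore.pullCongr hc.w).hom.app F ≫
        (EtCore.pullComp f' g).hom.app F) ≫ (tr f').app ((EtCoh.pull g).obj F) =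
      (EtCoh.pull g).map ((tr f).app F) := by
  refine hom_ext_stalk fun Ω _ _ η' y => ?_
  obtain ⟨p, rfl⟩ := (ConcreteCategory.bijective_of_isIso
    (stalkPull g η' ((EtCoh.push f).obj ((EtCoh.pull f).obj F)))).2 y
  refine Eq.trans ?_ (stalkPull_nat g η' ((tr f).app F) p).symm
  rw [stalk_tr, T_apply, map_sum, Functor.map_comp, Functor.map_comp, ConcreteCategory.comp_apply,
    ConcreteCategory.comp_apply, stalk_tr, T_apply]
  refine Finset.sum_bij (fun l' _ => downLift f g f' g' hc.w η' l') (fun _ _ => Finset.mem_univ _)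
    (fun a _ b _ hab => (bijective_downLift f g f' g' η' hc).1 hab)
    (fun l _ => ((bijective_downLift f g f' g' η' hc).2 l).imp fun a ha => ⟨Finset.mem_univ _, ha⟩)
    (fun l' _ => ?_)
  rw [map_zsmul, wt_baseChange hc η' l']
  refine congrArg (wt f (pt (l'.1 ≫ g')) • ·) ?_
  obtain ⟨q, hq⟩ := (el_bijective f (η' ≫ g) F (downLift f g f' g' hc.w η' l')).2
    (liftStalk f (η' ≫ g) (downLift f g f' g' hc.w η' l') ((EtCoh.pull f).obj F) p)
  refine (congrArg (elInv f' η' ((EtCoh.pull g).obj F) l') ((liftStalk_nat f' η' l'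
    (sqPull f g f' g' hc.w F) _).trans ((congrArg ((EtCoh.stalk l'.1).map (sqPull f g f' g' hc.w F))
      ((liftStalk_baseChange0 f g f' g' hc.w η' ((EtCoh.pull f).obj F) l' p).trans
        (congrArg (stalkPull g' l'.1 ((EtCoh.pull f).obj F)) hq.symm))).trans
      (stalk_sqPull f g f' g' hc.w η' F l' q)))).trans ?_
  rw [elInv_el, ← hq, elInv_el]
  rfl

end Groth.Agent.FinTrace9

end
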