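import Groth.Agent.Lib.EtStalk.FiniteStalk
import Groth.Agent.Lib.Weight4.MultRank
import Groth.Agent.Lib.Weight4.GeomSum

/-!
# The stalkwise trace of a finite flat morphism

At a geometric point `ξ` of the base, the trace of `f_* f^* F → F` is the sum over the geometric lifts of `ξ`,
weighted by length times inseparable degree.
-/

set_option autoImplicit false

universe u

open CategoryTheory CategoryTheory.Limits AlgebraicGeometry Opposite
open Groth.Agent.EtStalk Groth.Agent.Weight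

noncomputable section

namespace Groth.Agent.FinTrace9

variable {X S : Scheme.{u}} (f : X ⟶ S) [IsFinite f]

section Point

variable {Ω : Type u} [Field Ω] [IsAlgClosed Ω] (ξ : Spec (CommRingCat.of Ω) ⟶ S)

instance : Fintype (fLifts f ξ) :=
  haveI : Finite (fLifts f ξ) := FiniteSplit.finite_liftsOfFinite f ξ
  Fintype.ofFinite _

/-- The stalk of the base mapped to the stalk of the inverse image at a lift. -/
def el (F : EtCoh.Ab S) (l : fLifts f ξ) :
    (EtCoh.stalk ξ).obj F ⟶ (EtCoh.stalk l.1).obj ((EtCoh.pull f).obj F) :=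
  (EtCoh.stalk ξ).map ((EtCoh.pullPushAdj f).unit.app F) ≫ liftStalk f ξ l ((EtCoh.pull f).obj F)

omit [IsFinite f] in
theorem el_germ (F : EtCoh.Ab S) (l : fLifts f ξ) {W : S.Etale} (φ : fib ξ W) (s : F.obj.obj (op W)) :
    el f ξ F l (germ ξ F φ s) = germ l.1 ((EtCoh.pull f).obj F) (liftAt f ξ φ l)
      (((EtCoh.pullPushAdj f).unit.app F).hom.app (op W) s) := by
  refine (congrArg (liftStalk f ξ l ((EtCoh.pull f).obj F)) (germ_nat ξ _ φ s)).trans ?_
  exact liftStalk_germ f ξ l _ φ _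

omit [IsFinite f] in
theorem el_bijective (F : EtCoh.Ab S) (l : fLifts f ξ) : Function.Bijective (el f ξ F l) := by
  obtain ⟨a, ha⟩ := l
  subst ha
  have h : ⇑(el f (a ≫ f) F ⟨a, rfl⟩) = ⇑(stalkPull f a F) := funext fun q => by
    obtain ⟨W, φ, s, rfl⟩ := germ_surjective _ _ q
    rw [el_germ, germ_stalkPull]
    rfl
  rw [h]
  exact ConcreteCategory.bijective_of_isIso _

/-- The inverse of `el`. -/
def elInv (F : EtCoh.Ab S) (l : fLifts f ξ) :
    (EtCoh.stalk l.1).obj ((EtCoh.pull f).obj F) →+ (EtCoh.stalk ξ).obj F :=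
  (AddEquiv.ofBijective (el f ξ F l).hom (el_bijective f ξ F l)).symm.toAddMonoidHom

omit [IsFinite f] in
theorem elInv_el (F : EtCoh.Ab S) (l : fLifts f ξ) (q : (EtCoh.stalk ξ).obj F) :
    elInv f ξ F l (el f ξ F l q) = q :=
  (AddEquiv.ofBijective (el f ξ F l).hom (el_bijective f ξ F l)).symm_apply_apply q

/-- The trace on stalks. -/
def T (F : EtCoh.Ab S) :
    (EtCoh.stalk ξ).obj ((EtCoh.push f).obj ((EtCoh.pull f).obj F)) →+ (EtCoh.stalk ξ).obj F :=
  ∑ l : fLifts f ξ, wt f (pt l.1) • (elInv f ξ F l).comp (liftStalk f ξ l ((EtCoh.pull f).obj F)).hom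

theorem T_apply (F : EtCoh.Ab S) (p : (EtCoh.stalk ξ).obj ((EtCoh.push f).obj ((EtCoh.pull f).obj F))) :
    T f ξ F p = ∑ l : fLifts f ξ,
      wt f (pt l.1) • elInv f ξ F l (liftStalk f ξ l ((EtCoh.pull f).obj F) p) := by
  rw [T, AddMonoidHom.finsetSum_apply]
  rfl

theorem T_germ (F : EtCoh.Ab S) {W : S.Etale} (φ : fib ξ W)
    (t : ((EtCoh.pull f).obj F).obj.obj (op ((EtCoh.bc f).obj W))) :
    T f ξ F (germ ξ ((EtCoh.push f).obj ((EtCoh.pull f).obj F)) φ t) = ∑ l : fLifts f ξ,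
      wt f (pt l.1) • elInv f ξ F l (germ l.1 ((EtCoh.pull f).obj F) (liftAt f ξ φ l) t) := by
  rw [T_apply]
  exact Finset.sum_congr rfl fun l _ => congrArg (fun q => wt f (pt l.1) • elInv f ξ F l q)
    (liftStalk_germ f ξ l _ φ t)

omit [IsFinite f] in
theorem el_nat {F G : EtCoh.Ab S} (a : F ⟶ G) (l : fLifts f ξ) (q : (EtCoh.stalk ξ).obj F) :
    el f ξ G l ((EtCoh.stalk ξ).map a q) = (EtCoh.stalk l.1).map ((EtCoh.pull f).map a) (el f ξ F l q) := by
  obtain ⟨W, φ, s, rfl⟩ := germ_surjective _ _ q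
  rw [germ_nat, el_germ, el_germ, germ_nat]
  refine congrArg (germ l.1 ((EtCoh.pull f).obj G) (liftAt f ξ φ l)) ?_
  exact ConcreteCategory.congr_hom (congrArg (fun b => b.hom.app (op W)) ((EtCoh.pullPushAdj f).unit.naturality a)) s

theorem T_nat {F G : EtCoh.Ab S} (a : F ⟶ G)
    (p : (EtCoh.stalk ξ).obj ((EtCoh.push f).obj ((EtCoh.pull f).obj F))) :
    T f ξ G ((EtCoh.stalk ξ).map ((EtCoh.push f).map ((EtCoh.pull f).map a)) p) =
      (EtCoh.stalk ξ).map a (T f ξ F p) := by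
  rw [T_apply, T_apply, map_sum]
  refine Finset.sum_congr rfl fun l _ => ?_
  rw [map_zsmul, liftStalk_nat]
  refine congrArg (wt f (pt l.1) • ·) ((el_bijective f ξ G l).1 ?_)
  rw [el_nat]
  obtain ⟨q, hq⟩ := (el_bijective f ξ F l).2 (liftStalk f ξ l ((EtCoh.pull f).obj F) p)
  rw [← hq, elInv_el, ← el_nat, elInv_el, el_nat]

/-- The weights of the lifts add up to the degree. -/
theorem sum_wt [Flat f] : ∑ l : fLifts f ξ, wt f (pt l.1) = f.finrank (pt ξ) := by
  rw [← fibreIntegral_wt_eq_finrank f (pt ξ),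
    fibreIntegral_eq f (fun z => f.quasiFiniteAt z) (wt f) ξ _ rfl (f.finite_preimage_singleton _),
    finsum_eq_sum_of_fintype]

theorem T_unit [Flat f] (F : EtCoh.Ab S) (q : (EtCoh.stalk ξ).obj F) :
    T f ξ F ((EtCoh.stalk ξ).map ((EtCoh.pullPushAdj f).unit.app F) q) = (f.finrank (pt ξ) : ℤ) • q := by
  rw [← sum_wt f ξ, Finset.sum_smul, T_apply]
  refine Finset.sum_congr rfl fun l _ => congrArg (wt f (pt l.1) • ·) ?_
  exact elInv_el f ξ F l q

end Point

/-- `s` is the trace of `t`. -/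
def IsTr (F : EtCoh.Ab S) {W : S.Etale} (t : ((EtCoh.pull f).obj F).obj.obj (op ((EtCoh.bc f).obj W)))
    (s : F.obj.obj (op W)) : Prop :=
  ∀ (Ω : Type u) [Field Ω] [IsAlgClosed Ω] (ξ : Spec (CommRingCat.of Ω) ⟶ S) (φ : fib ξ W),
    germ ξ F φ s = T f ξ F (germ ξ ((EtCoh.push f).obj ((EtCoh.pull f).obj F)) φ t)

variable {f}

theorem IsTr.unique {F : EtCoh.Ab S} {W : S.Etale}
    {t : ((EtCoh.pull f).obj F).obj.obj (op ((EtCoh.bc f).obj W))} {s s' : F.obj.obj (op W)}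
    (h : IsTr f F t s) (h' : IsTr f F t s') : s = s' := by
  refine eq_of_agree F fun x => ?_
  obtain ⟨Ω, _, _, ξ, φ, rfl⟩ := exists_algFib W x
  rw [mem_agree_iff_germ, h Ω ξ φ, h' Ω ξ φ]

theorem IsTr.map {F : EtCoh.Ab S} {W V : S.Etale} (g : V ⟶ W)
    {t : ((EtCoh.pull f).obj F).obj.obj (op ((EtCoh.bc f).obj W))} {s : F.obj.obj (op W)}
    (h : IsTr f F t s) :
    IsTr f F (((EtCoh.pull f).obj F).obj.map ((EtCoh.bc f).map g).op t) (F.obj.map g.op s) := by
  intro Ω _ _ ξ φ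
  rw [germ_map, h Ω ξ]
  exact congrArg (T f ξ F) (germ_map ξ ((EtCoh.push f).obj ((EtCoh.pull f).obj F)) g φ t).symm

end Groth.Agent.FinTrace9

end
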