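import Groth.Agent.Lib.FinTrace9.Basic

/-!
# Local existence of the trace
-/

set_option autoImplicit false

universe u

open CategoryTheory CategoryTheory.Limits AlgebraicGeometry Opposite
open Groth.Agent.EtStalk Groth.Agent.Weight

noncomputable section

namespace Groth.Agent.FinTrace9

variable {X S : Scheme.{u}} (f : X ⟶ S) [IsFinite f] [Flat f] [LocallyOfFinitePresentation f]

/-- Splitting of the fibre gives the trace on an open. -/
theorem exists_isTr_of_parts (F : EtCoh.Ab S) {U : S.Etale} {ι : Type u} [Fintype ι]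
    (P : ι → ((EtCoh.bc f).obj U).left.Opens) (hP : ∀ z, ∃! l, z ∈ P l) (s : ι → F.obj.obj (op U))
    (t : ((EtCoh.pull f).obj F).obj.obj (op ((EtCoh.bc f).obj U)))
    (hs : ∀ l, ((EtCoh.pull f).obj F).obj.map (EtSite.subHom _ (P l)).op t =
      ((EtCoh.pull f).obj F).obj.map (EtSite.subHom _ (P l)).op
        (((EtCoh.pullPushAdj f).unit.app F).hom.app (op U) (s l)))
    (x : U.left) :
    ∃ (O : U.left.Opens) (_ : x ∈ O) (r : F.obj.obj (op (EtSite.sub U O))),
      IsTr f F (((EtCoh.pull f).obj F).obj.map ((EtCoh.bc f).map (EtSite.subHom U O)).op t) r := by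
  classical
  haveI : AlgebraicGeometry.Etale U.hom := U.prop
  haveI : IsFinite (bcFst f U) := inferInstanceAs (IsFinite (pullback.fst U.hom f))
  haveI : Flat (bcFst f U) := inferInstanceAs (Flat (pullback.fst U.hom f))
  haveI : LocallyOfFinitePresentation (bcFst f U) :=
    inferInstanceAs (LocallyOfFinitePresentation (pullback.fst U.hom f))
  have hclosed : ∀ l, IsClosed (P l : Set ((EtCoh.bc f).obj U).left) := fun l => by
    have h : (P l : Set ((EtCoh.bc f).obj U).left)ᶜ =
        ⋃ l' : {l' // l' ≠ l}, (P l'.1 : Set ((EtCoh.bc f).obj U).left) := by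
      ext z
      obtain ⟨l₁, h₁, h₂⟩ := hP z
      refine ⟨fun hz => Set.mem_iUnion.2 ⟨⟨l₁, fun (e : l₁ = l) => hz (e ▸ h₁)⟩, h₁⟩,
        fun h hz => ?_⟩
      obtain ⟨⟨l', hne⟩, hl'⟩ := Set.mem_iUnion.1 h
      exact hne ((h₂ l' hl').trans (h₂ l hz).symm)
    rw [← isOpen_compl_iff, h]
    exact isOpen_iUnion fun l' => (P l'.1).2
  haveI : ∀ l, IsClosedImmersion ((P l).ι) := fun l =>
    IsClosedImmersion.of_isPreimmersion _ (by rw [Scheme.Opens.range_ι]; exact hclosed l)
  let π : ∀ l, (P l : Scheme.{u}) ⟶ U.left := fun l => (P l).ι ≫ bcFst f U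
  have hπ : ∀ l, IsLocallyConstant (π l).finrank := fun l => (π l).isLocallyConstant_finrank
  let N : ι → ℕ := fun l => (π l).finrank x
  let O : U.left.Opens := ⟨⋂ l, (π l).finrank ⁻¹' {N l}, isOpen_iInter_of_finite fun l => (hπ l).isOpen_fiber _⟩
  have hxO : x ∈ O := Set.mem_iInter.2 fun l => rfl
  refine ⟨O, hxO, F.obj.map (EtSite.subHom U O).op (∑ l, N l • s l), fun Ω _ _ ξ φ => ?_⟩
  let ψ : fib ξ U := (Scheme.pointSmallEtale ξ).fiber.map (EtSite.subHom U O) φ
  have hψO : ∀ l, (π l).finrank (fibPt ψ) = N l := fun l =>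
    Set.mem_iInter.1 (show fibPt ψ ∈ O from (φ.left (default : Spec (CommRingCat.of Ω))).2) l
  rw [germ_map]
  refine Eq.trans ?_ (congrArg (T f ξ F)
    (germ_map ξ ((EtCoh.push f).obj ((EtCoh.pull f).obj F)) (EtSite.subHom U O) φ t).symm)
  change germ ξ F ψ _ = T f ξ F (germ ξ _ ψ t)
  rw [T_germ]
  choose c hc huc using fun l' : fLifts f ξ => hP (fibPt (liftAt f ξ ψ l'))
  have h1 : ∀ l', elInv f ξ F l' (germ l'.1 ((EtCoh.pull f).obj F) (liftAt f ξ ψ l') t) =
      germ ξ F ψ (s (c l')) := fun l' => by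
    refine Eq.trans ?_ (elInv_el f ξ F l' _)
    refine congrArg (elInv f ξ F l') ?_
    rw [el_germ, ← mem_agree_iff_germ]
    exact ⟨_, EtSite.subHom _ (P (c l')), ⟨⟨_, hc l'⟩, rfl⟩, hs (c l')⟩
  simp only [h1]
  have h2 : ∀ l, ∑ l' ∈ Finset.univ.filter (fun l' => c l' = l), wt f (pt l'.1) = (N l : ℤ) := fun l => by
    rw [← hψO l, ← fibreIntegral_wt_eq_finrank (π l) (fibPt ψ),
      fibreIntegral_eq (π l) (fun z => (π l).quasiFiniteAt z) (wt (π l)) ψ.left (fibPt ψ) (congrArg ψ.left (Subsingleton.elim (α := ↥(Spec (CommRingCat.of Ω))) _ _))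
        ((π l).finite_preimage_singleton _)]
    let A := {a : Spec (CommRingCat.of Ω) ⟶ (P l : Scheme.{u}) // a ≫ π l = ψ.left}
    haveI : Finite A := finite_lifts (π l) (fun z => (π l).quasiFiniteAt z) _ ((π l).finite_preimage_singleton _)
    letI := Fintype.ofFinite A
    rw [finsum_eq_sum_of_fintype]
    haveI : AlgebraicGeometry.Etale (pullback.snd U.hom f) :=
      MorphismProperty.pullback_snd U.hom f (inferInstance : AlgebraicGeometry.Etale U.hom)
    haveI : AlgebraicGeometry.Etale ((P l).ι ≫ pullback.snd U.hom f) :=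
      MorphismProperty.comp_mem _ (P l).ι (pullback.snd U.hom f) (inferInstance : AlgebraicGeometry.Etale (P l).ι) ‹_›
    have hwt : ∀ z : (P l : Scheme.{u}), wt (π l) z = wt f (((P l).ι ≫ pullback.snd U.hom f) z) := fun z =>
      wt_of_commSq (f := f) (f' := π l) (j := (P l).ι ≫ pullback.snd U.hom f) (g := U.hom)
        (by
          show ((P l).ι ≫ pullback.fst U.hom f) ≫ U.hom = _
          exact (Category.assoc _ _ _).trans ((congrArg ((P l).ι ≫ ·) pullback.condition).trans
            (Category.assoc _ _ _).symm)) z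
    let fwd : A → fLifts f ξ := fun a => ⟨a.1 ≫ (P l).ι ≫ pullback.snd U.hom f, by
      have h : a.1 ≫ (P l).ι ≫ pullback.fst U.hom f = ψ.left := a.2
      refine ((Category.assoc _ _ _).trans ((congrArg (a.1 ≫ ·) ((Category.assoc _ _ _).trans
        ((congrArg ((P l).ι ≫ ·) pullback.condition.symm).trans (Category.assoc _ _ _).symm))).trans
        (Category.assoc _ _ _).symm)).trans ?_
      exact (congrArg (· ≫ U.hom) h).trans (Over.w ψ)⟩
    have hfwd : ∀ a : A, (liftAt f ξ ψ (fwd a)).left = a.1 ≫ (P l).ι := fun a =>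
      pullback.hom_ext ((liftAt_left_fst f ξ ψ (fwd a)).trans (a.2.symm.trans (Category.assoc _ _ _).symm))
        ((pullback.lift_snd _ _ _).trans (Category.assoc _ _ _).symm)
    have hmem : ∀ a : A, c (fwd a) = l := fun a => (huc (fwd a) l (by
      show (liftAt f ξ ψ (fwd a)).left (default : Spec (CommRingCat.of Ω)) ∈ P l
      rw [hfwd]
      exact (a.1 (default : Spec (CommRingCat.of Ω))).2)).symm
    refine (Finset.sum_bij (fun a _ => fwd a) (fun a _ => Finset.mem_filter.2 ⟨Finset.mem_univ _, hmem a⟩)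
      (fun a _ b _ h => Subtype.ext ((cancel_mono (P l).ι).1 ?_)) (fun l' hl' => ?_) (fun a _ => ?_)).symm
    · rw [← hfwd a, ← hfwd b, h]
    · have hl : pt (liftAt f ξ ψ l').left ∈ P l := by
        rw [← (Finset.mem_filter.1 hl').2]
        have h : (liftAt f ξ ψ l').left (default : Spec (CommRingCat.of Ω)) ∈ P (c l') := hc l'
        rwa [show (default : Spec (CommRingCat.of Ω)) = IsLocalRing.closedPoint Ω from
          Subsingleton.elim (α := ↥(Spec (CommRingCat.of Ω))) _ _] at h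
      let a : A := ⟨liftOpen (P l) (liftAt f ξ ψ l').left hl, by
        rw [← liftAt_left_fst f ξ ψ l', ← Category.assoc, liftOpen_ι]; rfl⟩
      refine ⟨a, Finset.mem_univ _, Subtype.ext ?_⟩
      change liftOpen (P l) _ hl ≫ (P l).ι ≫ pullback.snd U.hom f = l'.1
      rw [← Category.assoc, liftOpen_ι]
      exact pullback.lift_snd _ _ _
    · exact hwt _
  calc germ ξ F ψ (∑ l, N l • s l) = ∑ l, (N l : ℤ) • germ ξ F ψ (s l) := by
        simp only [map_sum, map_nsmul, natCast_zsmul]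
    _ = ∑ l, ∑ l' ∈ Finset.univ.filter (fun l' => c l' = l), wt f (pt l'.1) • germ ξ F ψ (s (c l')) :=
        Finset.sum_congr rfl fun l _ => by
          rw [← h2 l, Finset.sum_smul]
          exact Finset.sum_congr rfl fun l' hl' => by rw [(Finset.mem_filter.1 hl').2]
    _ = _ := Finset.sum_fiberwise (g := c) (f := fun l' => wt f (pt l'.1) • germ ξ F ψ (s (c l'))) (s := Finset.univ)

/-- Every section has a trace, locally. -/
theorem exists_isTr_local (F : EtCoh.Ab S) {W : S.Etale}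
    (t : ((EtCoh.pull f).obj F).obj.obj (op ((EtCoh.bc f).obj W))) (x : W.left) :
    ∃ (V : S.Etale) (g : V ⟶ W) (v : V.left) (r : F.obj.obj (op V)), g.left v = x ∧
      IsTr f F (((EtCoh.pull f).obj F).obj.map ((EtCoh.bc f).map g).op t) r := by
  classical
  obtain ⟨Ω, _, _, ξ, φ, hφ⟩ := exists_algFib W x
  let G := (EtCoh.pull f).obj F
  choose q hq using fun l : fLifts f ξ => (el_bijective f ξ F l).2 (germ l.1 G (liftAt f ξ φ l) t)
  choose Wl yl sl hsl using fun l : fLifts f ξ => germ_surjective ξ F (q l)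
  let E := (Scheme.pointSmallEtale ξ).fiber.Elements
  obtain ⟨E1, hE1⟩ := IsCofiltered.inf_objs_exists (C := E)
    (insert (⟨W, φ⟩ : E) (Finset.univ.image fun l : fLifts f ξ => (⟨Wl l, yl l⟩ : E)))
  obtain ⟨⟨g1, hg1⟩⟩ := hE1 (Finset.mem_insert_self _ _)
  have hgl := fun l : fLifts f ξ => (hE1 (X := (⟨Wl l, yl l⟩ : E))
    (Finset.mem_insert_of_mem (Finset.mem_image.2 ⟨l, Finset.mem_univ _, rfl⟩))).some
  let W1 := E1.1
  let φ1 : fib ξ W1 := E1.2
  let s1 : fLifts f ξ → F.obj.obj (op W1) := fun l => F.obj.map (hgl l).1.op (sl l)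
  let t1 : G.obj.obj (op ((EtCoh.bc f).obj W1)) := G.obj.map ((EtCoh.bc f).map g1).op t
  have he : ∀ l, germ l.1 G (liftAt f ξ φ1 l) t1 =
      germ l.1 G (liftAt f ξ φ1 l) (((EtCoh.pullPushAdj f).unit.app F).hom.app (op W1) (s1 l)) := fun l => by
    rw [← el_germ, germ_map, liftAt_map f ξ g1, germ_map]
    refine Eq.trans ?_ (congrArg (fun y => el f ξ F l (germ ξ F y (sl l))) (hgl l).2.symm)
    rw [hsl, hq]
    exact congrArg (fun y => germ l.1 G (liftAt f ξ y l) t) hg1
  choose Vl ml cl hcl hVl using fun l => (germ_eq_iff l.1 G _ _ _).1 (he l)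
  obtain ⟨U, g2, u, P, σ, hgu, hP, hσ, -⟩ := exists_refinement f ξ φ1 Vl ml cl hcl
  let t2 : G.obj.obj (op ((EtCoh.bc f).obj U)) := G.obj.map ((EtCoh.bc f).map g2).op t1
  obtain ⟨O, hO, r, hr⟩ := exists_isTr_of_parts f F P hP (fun l => F.obj.map g2.op (s1 l)) t2 (fun l => by
    have hn : ((EtCoh.pullPushAdj f).unit.app F).hom.app (op U) (F.obj.map g2.op (s1 l)) =
        G.obj.map ((EtCoh.bc f).map g2).op (((EtCoh.pullPushAdj f).unit.app F).hom.app (op W1) (s1 l)) :=
      NatTrans.naturality_apply ((EtCoh.pullPushAdj f).unit.app F).hom g2.op (s1 l)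
    rw [hn, ← Functor.map_comp_apply, ← Functor.map_comp_apply, ← op_comp, ← hσ l, op_comp,
      Functor.map_comp_apply, Functor.map_comp_apply, hVl l, ← Functor.map_comp_apply, ← Functor.map_comp_apply,
      ← op_comp, ← op_comp, hσ l]) (fibPt u)
  refine ⟨EtSite.sub U O, EtSite.subHom U O ≫ g2 ≫ g1, ⟨fibPt u, hO⟩, r, ?_, ?_⟩
  · refine Eq.trans ?_ hφ
    have h : (Scheme.pointSmallEtale ξ).fiber.map g1 ((Scheme.pointSmallEtale ξ).fiber.map g2 u) = φ :=
      (congrArg ((Scheme.pointSmallEtale ξ).fiber.map g1) hgu).trans hg1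
    exact congrArg fibPt h
  · have e : G.obj.map ((EtCoh.bc f).map (EtSite.subHom U O ≫ g2 ≫ g1)).op t =
        G.obj.map ((EtCoh.bc f).map (EtSite.subHom U O)).op t2 := by
      simp only [t2, t1, Functor.map_comp, op_comp]
      rfl
    exact e ▸ hr

end Groth.Agent.FinTrace9

end
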