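import Groth.Agent.Lib.FinTrace9.Local

/-!
# The trace of a finite flat morphism
-/

set_option autoImplicit false

universe u

open CategoryTheory CategoryTheory.Limits AlgebraicGeometry Opposite
open Groth.Agent.EtStalk Groth.Agent.Weight

noncomputable section

namespace Groth.Agent.FinTrace9

variable {X S : Scheme.{u}} (f : X ⟶ S) [IsFinite f] [Flat f] [LocallyOfFinitePresentation f]

theorem exists_isTr (F : EtCoh.Ab S) {W : S.Etale}
    (t : ((EtCoh.pull f).obj F).obj.obj (op ((EtCoh.bc f).obj W))) : ∃ s, IsTr f F t s := by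
  let R : Sieve W :=
    { arrows := fun V g => ∃ r, IsTr f F (((EtCoh.pull f).obj F).obj.map ((EtCoh.bc f).map g).op t) r
      downward_closed := fun {V V' g} ⟨r, hr⟩ h => ⟨F.obj.map h.op r, by
        have := hr.map h
        rwa [← Functor.map_comp_apply, ← op_comp, ← Functor.map_comp] at this⟩ }
  have hR : R ∈ S.smallEtaleTopology W := by
    rw [EtSite.mem_et_iff]
    intro x
    obtain ⟨V, g, v, r, hv, hr⟩ := exists_isTr_local f F t x
    exact ⟨V, g, v, ⟨r, hr⟩, hv⟩
  have hsh : Presieve.IsSheafFor (F.obj ⋙ forget AddCommGrpCat.{u + 1}) (R : Presieve W) :=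
    ((isSheaf_iff_isSheaf_of_type _ _).1
      ((Presheaf.isSheaf_iff_isSheaf_forget _ F.obj (forget _)).1 F.property)) R hR
  let x : Presieve.FamilyOfElements (F.obj ⋙ forget AddCommGrpCat.{u + 1}) (R : Presieve W) :=
    fun V g hg => hg.choose
  have hx : x.Compatible := fun V₁ V₂ Z h₁ h₂ g₁ g₂ hg₁ hg₂ e => by
    have a₁ := hg₁.choose_spec.map h₁
    have a₂ := hg₂.choose_spec.map h₂
    rw [← Functor.map_comp_apply, ← op_comp, ← Functor.map_comp] at a₁ a₂
    rw [← e] at a₂
    exact a₁.unique a₂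
  refine ⟨hsh.amalgamate x hx, fun Ω _ _ ξ φ => ?_⟩
  obtain ⟨V, g, hg, y, rfl⟩ := (Scheme.pointSmallEtale ξ).jointly_surjective R hR φ
  have h : F.obj.map g.op (hsh.amalgamate x hx) = hg.choose := hsh.valid_glue hx g hg
  rw [← germ_map, h, hg.choose_spec Ω ξ y]
  exact congrArg (T f ξ F) (germ_map ξ ((EtCoh.push f).obj ((EtCoh.pull f).obj F)) g y t)

/-- The trace on sections. -/
def trSec (F : EtCoh.Ab S) (W : S.Etale) :
    ((EtCoh.pull f).obj F).obj.obj (op ((EtCoh.bc f).obj W)) →+ F.obj.obj (op W) :=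
  AddMonoidHom.mk' (fun t => (exists_isTr f F t).choose) fun t t' => by
    refine (exists_isTr f F (t + t')).choose_spec.unique fun Ω _ _ ξ φ => ?_
    rw [map_add, (exists_isTr f F t).choose_spec Ω ξ φ, (exists_isTr f F t').choose_spec Ω ξ φ, ← map_add]
    exact congrArg (T f ξ F) (map_add (germ ξ ((EtCoh.push f).obj ((EtCoh.pull f).obj F)) φ).hom t t').symm

theorem isTr_trSec (F : EtCoh.Ab S) (W : S.Etale)
    (t : ((EtCoh.pull f).obj F).obj.obj (op ((EtCoh.bc f).obj W))) : IsTr f F t (trSec f F W t) :=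
  (exists_isTr f F t).choose_spec

/-- The trace. -/
def tr : EtCoh.pull f ⋙ EtCoh.push f ⟶ 𝟭 (EtCoh.Ab S) where
  app F := ⟨{
    app := fun W => AddCommGrpCat.ofHom (trSec f F W.unop)
    naturality := fun W V g => by
      refine AddCommGrpCat.ext fun t => ?_
      exact (isTr_trSec f F V.unop _).unique ((isTr_trSec f F W.unop t).map g.unop) }⟩
  naturality F G a := by
    refine Sheaf.hom_ext (NatTrans.ext (funext fun W => AddCommGrpCat.ext fun t => ?_))
    refine (isTr_trSec f G W.unop _).unique fun Ω _ _ ξ φ => ?_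
    change germ ξ G φ (a.hom.app W (trSec f F W.unop t)) = _
    rw [← germ_nat ξ a φ, isTr_trSec f F W.unop t Ω ξ φ, ← T_nat]
    exact congrArg (T f ξ G) (germ_nat ξ ((EtCoh.push f).map ((EtCoh.pull f).map a)) φ t)

theorem unit_tr (n : ℕ) (hn : ∀ s : S, f.finrank s = n) (F : EtCoh.Ab S) :
    (EtCoh.pullPushAdj f).unit.app F ≫ (tr f).app F = n • 𝟙 F := by
  refine Sheaf.hom_ext (NatTrans.ext (funext fun W => AddCommGrpCat.ext fun s => ?_))
  have hr : ∀ m : ℕ, ((m • 𝟙 F : F ⟶ F)).hom.app W s = m • s := by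
    intro m
    induction m with
    | zero => rw [zero_smul, zero_smul]; rfl
    | succ m ih => rw [succ_nsmul, succ_nsmul]; exact congrArg (· + s) ih
  rw [hr]
  refine (isTr_trSec f F W.unop _).unique fun Ω _ _ ξ φ => ?_
  rw [map_nsmul]
  refine Eq.trans ?_ (congrArg (T f ξ F) (germ_nat ξ ((EtCoh.pullPushAdj f).unit.app F) φ s))
  rw [T_unit, hn, natCast_zsmul]; rfl

end Groth.Agent.FinTrace9

end
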