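import Groth.Agent.Lib.FinTrace9.Main
import Groth.Agent.Lib.EtStalk.FiniteBC
import Groth.Prelude.Def_EtCore

/-!
# Stalkwise form of the composition and base change maps
-/

set_option autoImplicit false

universe u

open CategoryTheory CategoryTheory.Limits AlgebraicGeometry Opposite
open Groth.Agent.EtStalk Groth.Agent.Weight

noncomputable section

namespace Groth.Agent.FinTrace9

variable {X Y S : Scheme.{u}} {Ω : Type u} [Field Ω] [IsAlgClosed Ω]

theorem el_eq_stalkPull (f : X ⟶ S) (a : Spec (CommRingCat.of Ω) ⟶ X) (F : EtCoh.Ab S)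
    (q : (EtCoh.stalk (a ≫ f)).obj F) : el f (a ≫ f) F ⟨a, rfl⟩ q = stalkPull f a F q := by
  obtain ⟨W, φ, s, rfl⟩ := germ_surjective _ _ q
  rw [el_germ, germ_stalkPull]
  rfl

theorem stalkPull_nat (f : X ⟶ S) (a : Spec (CommRingCat.of Ω) ⟶ X) {F G : EtCoh.Ab S} (θ : F ⟶ G)
    (q : (EtCoh.stalk (a ≫ f)).obj F) :
    (EtCoh.stalk a).map ((EtCoh.pull f).map θ) (stalkPull f a F q) =
      stalkPull f a G ((EtCoh.stalk (a ≫ f)).map θ q) := by
  rw [← el_eq_stalkPull, ← el_eq_stalkPull, el_nat]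

section Comp

variable (h : X ⟶ Y) (g : Y ⟶ S) (ξ : Spec (CommRingCat.of Ω) ⟶ S)

/-- The lift to the middle under a lift to the top. -/
def midLift (l : fLifts (h ≫ g) ξ) : fLifts g ξ := ⟨l.1 ≫ h, (Category.assoc _ _ _).trans l.2⟩

/-- A lift to the top as a lift over its middle. -/
def topLift (l : fLifts (h ≫ g) ξ) : fLifts h (midLift h g ξ l).1 := ⟨l.1, rfl⟩

/-- A lift of a lift. -/
def compLift (m : fLifts g ξ) (k : fLifts h m.1) : fLifts (h ≫ g) ξ :=
  ⟨k.1, by rw [← Category.assoc, k.2, m.2]⟩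

set_option backward.isDefEq.respectTransparency.types false in
theorem liftAt_comp {W : S.Etale} (φ : fib ξ W) (m : fLifts g ξ) (k : fLifts h m.1) :
    (Scheme.pointSmallEtale k.1).fiber.map
        ((MorphismProperty.Over.pullbackComp (P := EtCoh.etaleMP) (Q := ⊤) h g).hom.app W)
        (liftAt (h ≫ g) ξ φ (compLift h g ξ m k)) =
      liftAt h m.1 (liftAt g ξ φ m) k := by
  refine fib_iter_ext g h _ _ ?_
  refine (Category.assoc _ _ _).trans ((congrArg ((liftAt (h ≫ g) ξ φ (compLift h g ξ m k)).left ≫ ·)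
    (MorphismProperty.Over.pullbackComp_left_fst_fst h g W)).trans ?_)
  refine (liftAt_left_fst (h ≫ g) ξ φ (compLift h g ξ m k)).trans ?_
  refine ((liftAt_left_fst g ξ φ m).symm.trans ?_)
  exact (congrArg (· ≫ bcFst g W) (liftAt_left_fst h m.1 (liftAt g ξ φ m) k)).symm.trans
    (Category.assoc _ _ _)

set_option backward.isDefEq.respectTransparency.types false in
/-- Iterated comparison maps on stalks compose. -/
theorem el_comp (F : EtCoh.Ab S) (m : fLifts g ξ) (k : fLifts h m.1) (q : (EtCoh.stalk ξ).obj F) :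
    (EtCoh.stalk k.1).map ((EtCore.pullComp h g).inv.app F)
        (el h m.1 ((EtCoh.pull g).obj F) k (el g ξ F m q)) =
      el (h ≫ g) ξ F (compLift h g ξ m k) q := by
  obtain ⟨W, φ, s, rfl⟩ := germ_surjective _ _ q
  rw [el_germ, el_germ, el_germ]
  refine (germ_nat k.1 ((EtCore.pullComp h g).inv.app F) _ _).trans ?_
  let e := (MorphismProperty.Over.pullbackComp (P := EtCoh.etaleMP) (Q := ⊤) h g).hom.app W
  have hs : ((EtCoh.pull (h ≫ g)).obj F).obj.map e.op
        (((EtCore.pullComp h g).inv.app F).hom.app (op ((EtCoh.bc h).obj ((EtCoh.bc g).obj W)))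
          (((EtCoh.pullPushAdj h).unit.app ((EtCoh.pull g).obj F)).hom.app (op ((EtCoh.bc g).obj W))
            (((EtCoh.pullPushAdj g).unit.app F).hom.app (op W) s))) =
      ((EtCoh.pullPushAdj (h ≫ g)).unit.app F).hom.app (op W) s := by
    have h₁ := Adjunction.homEquiv_leftAdjointUniq_hom_app
      (((EtCoh.pullPushAdj g).comp (EtCoh.pullPushAdj h)).ofNatIsoRight (EtCoh.pushComp g h))
      (EtCoh.pullPushAdj (h ≫ g)) F
    rw [← Adjunction.leftAdjointUniq_inv_app] at h₁
    rw [Adjunction.homEquiv_unit] at h₁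
    refine Eq.trans ?_ (congrArg (fun t : F ⟶ (EtCoh.push (h ≫ g)).obj ((EtCoh.pull (h ≫ g)).obj F) =>
      t.hom.app (op W) s) h₁)
    refine (ConcreteCategory.congr_hom (((EtCore.pullComp h g).inv.app F).hom.naturality _) _).symm.trans ?_
    rfl
  rw [← hs]
  refine Eq.trans ?_ (germ_map k.1 _ e (liftAt (h ≫ g) ξ φ (compLift h g ξ m k)) _).symm
  rw [liftAt_comp]
  rfl

theorem el_pullComp_hom (F : EtCoh.Ab S) (m : fLifts g ξ) (k : fLifts h m.1) (q : (EtCoh.stalk ξ).obj F) :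
    (EtCoh.stalk k.1).map ((EtCore.pullComp h g).hom.app F) (el (h ≫ g) ξ F (compLift h g ξ m k) q) =
      el h m.1 ((EtCoh.pull g).obj F) k (el g ξ F m q) := by
  rw [← el_comp h g ξ F m k q, ← ConcreteCategory.comp_apply, ← Functor.map_comp, Iso.inv_hom_id_app,
    CategoryTheory.Functor.map_id]
  rfl

set_option backward.isDefEq.respectTransparency.types false in
/-- The composition isomorphism of direct images on stalks. -/
theorem liftStalk_pushComp_inv (G : EtCoh.Ab X) (m : fLifts g ξ) (k : fLifts h m.1)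
    (p : (EtCoh.stalk ξ).obj ((EtCoh.push (h ≫ g)).obj G)) :
    liftStalk h m.1 k G (liftStalk g ξ m ((EtCoh.push h).obj G)
        ((EtCoh.stalk ξ).map ((EtCoh.pushComp g h).inv.app G) p)) =
      liftStalk (h ≫ g) ξ (compLift h g ξ m k) G p := by
  obtain ⟨W, φ, s, rfl⟩ := germ_surjective _ _ p
  rw [germ_nat, liftStalk_germ]
  refine (congrArg (liftStalk h m.1 k G) (liftStalk_germ g ξ m ((EtCoh.push h).obj G) φ _)).trans ?_
  refine (liftStalk_germ h m.1 k G (liftAt g ξ φ m) _).trans ?_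
  let e := (MorphismProperty.Over.pullbackComp (P := EtCoh.etaleMP) (Q := ⊤) h g).app W
  have hs : G.obj.map e.hom.op (((EtCoh.pushComp g h).inv.app G).hom.app (op W) s) = s := by
    change G.obj.map e.hom.op (G.obj.map e.inv.op s) = s
    refine (Functor.map_comp_apply G.obj e.inv.op e.hom.op s).symm.trans ?_
    refine (congrArg (fun i => G.obj.map i s) (show e.inv.op ≫ e.hom.op = 𝟙 _ from
      congrArg Quiver.Hom.op e.hom_inv_id)).trans ?_
    exact ConcreteCategory.congr_hom (G.obj.map_id _) s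
  conv_rhs => rw [← hs]
  refine Eq.trans ?_ (germ_map k.1 G e.hom (liftAt (h ≫ g) ξ φ (compLift h g ξ m k)) _).symm
  exact congrArg (fun y => germ k.1 G y _) (liftAt_comp h g ξ φ m k).symm

end Comp

/-- Transport along an equality of morphisms. -/
theorem el_congr {h h' : X ⟶ S} (e : h = h') (ξ : Spec (CommRingCat.of Ω) ⟶ S) (F : EtCoh.Ab S)
    (a : Spec (CommRingCat.of Ω) ⟶ X) (ha : a ≫ h = ξ) (ha' : a ≫ h' = ξ) (q : (EtCoh.stalk ξ).obj F) :
    (EtCoh.stalk a).map ((EtCore.pullCongr e).hom.app F) (el h ξ F ⟨a, ha⟩ q) = el h' ξ F ⟨a, ha'⟩ q := by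
  subst e
  simp [EtCore.pullCongr]

section BC

variable {X' S' : Scheme.{u}} (f : X ⟶ S) (g : S' ⟶ S) (f' : X' ⟶ S') (g' : X' ⟶ X)
  (w : g' ≫ f = f' ≫ g) (η' : Spec (CommRingCat.of Ω) ⟶ S')

/-- The comparison `g'^* f^* ≅ f'^* g^*` around a square. -/
abbrev sqPull (F : EtCoh.Ab S) :
    (EtCoh.pull g').obj ((EtCoh.pull f).obj F) ⟶ (EtCoh.pull f').obj ((EtCoh.pull g).obj F) :=
  (EtCore.pullComp g' f).inv.app F ≫ (EtCore.pullCongr w).hom.app F ≫ (EtCore.pullComp f' g).hom.app F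

theorem stalk_sqPull (F : EtCoh.Ab S) (l' : fLifts f' η') (q : (EtCoh.stalk (η' ≫ g)).obj F) :
    (EtCoh.stalk l'.1).map (sqPull f g f' g' w F)
        (stalkPull g' l'.1 ((EtCoh.pull f).obj F) (el f (η' ≫ g) F (downLift f g f' g' w η' l') q)) =
      el f' η' ((EtCoh.pull g).obj F) l' (stalkPull g η' F q) := by
  rw [← el_eq_stalkPull g' l'.1, ← el_eq_stalkPull g η', sqPull, Functor.map_comp, Functor.map_comp,
    ConcreteCategory.comp_apply, ConcreteCategory.comp_apply]
  have h1 := el_comp g' f (η' ≫ g) F (downLift f g f' g' w η' l') ⟨l'.1, rfl⟩ q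
  refine (congrArg (fun y => (EtCoh.stalk l'.1).map ((EtCore.pullComp f' g).hom.app F)
    ((EtCoh.stalk l'.1).map ((EtCore.pullCongr w).hom.app F) y)) h1).trans ?_
  refine (congrArg ((EtCoh.stalk l'.1).map ((EtCore.pullComp f' g).hom.app F))
    (el_congr w (η' ≫ g) F l'.1 (compLift g' f (η' ≫ g) (downLift f g f' g' w η' l') ⟨l'.1, rfl⟩).2
      (by rw [← Category.assoc, l'.2]) q)).trans ?_
  exact el_pullComp_hom f' g (η' ≫ g) F ⟨η', rfl⟩ l' q

end BC

end Groth.Agent.FinTrace9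

end
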