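import Groth.Agent.Lib.FinTrace9.Axioms
import Groth.Agent.Lib.Weight4.Max
import Groth.Agent.Lib.Weight4.DegRank

/-!
# The trace is the only family with these compatibilities
-/

set_option autoImplicit false

universe u

open CategoryTheory CategoryTheory.Limits AlgebraicGeometry Opposite
open Groth.Agent.EtStalk Groth.Agent.Weight

noncomputable section

namespace Groth.Agent.FinTrace9

variable {X S : Scheme.{u}}

/-- A trace is determined at a point with at most one lift by the degree axiom. -/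
theorem agree_of_subsingleton (f : X ⟶ S) [IsFinite f] (n : ℕ) (F : EtCoh.Ab S)
    {a b : (EtCoh.push f).obj ((EtCoh.pull f).obj F) ⟶ F}
    (ha : (EtCoh.pullPushAdj f).unit.app F ≫ a = n • 𝟙 F) (hb : (EtCoh.pullPushAdj f).unit.app F ≫ b = n • 𝟙 F)
    {Ω : Type u} [Field Ω] [IsAlgClosed Ω] (ξ : Spec (CommRingCat.of Ω) ⟶ S) [Subsingleton (fLifts f ξ)]
    (p : (EtCoh.stalk ξ).obj ((EtCoh.push f).obj ((EtCoh.pull f).obj F))) :
    (EtCoh.stalk ξ).map a p = (EtCoh.stalk ξ).map b p := by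
  obtain ⟨q, rfl⟩ : ∃ q, (EtCoh.stalk ξ).map ((EtCoh.pullPushAdj f).unit.app F) q = p := by
    by_cases h : Nonempty (fLifts f ξ)
    · obtain ⟨l⟩ := h
      obtain ⟨q, hq⟩ := (el_bijective f ξ F l).2 (liftStalk f ξ l ((EtCoh.pull f).obj F) p)
      refine ⟨q, (bijective_liftStalk f ξ _).1 (funext fun l' => ?_)⟩
      obtain rfl := Subsingleton.elim l l'
      exact hq
    · exact ⟨0, (bijective_liftStalk f ξ _).1 (funext fun l => absurd ⟨l⟩ h)⟩
  refine (ConcreteCategory.congr_hom ((EtCoh.stalk ξ).map_comp _ a) q).symm.trans (Eq.trans ?_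
    (ConcreteCategory.congr_hom ((EtCoh.stalk ξ).map_comp _ b) q))
  rw [ha, hb]

theorem finrank_const {P : Scheme.{u}} {Ω : Type u} [Field Ω] (π : P ⟶ Spec (CommRingCat.of Ω)) :
    ∃ n : ℕ, ∀ s, π.finrank s = n :=
  ⟨π.finrank (IsLocalRing.closedPoint Ω), fun s =>
    congrArg π.finrank (Subsingleton.elim (α := ↥(Spec (CommRingCat.of Ω))) _ _)⟩

theorem sum_openImm_lift {U : Scheme.{u}} (i : U ⟶ X) [IsOpenImmersion i] [IsFinite i]
    {Ω : Type u} [Field Ω] [IsAlgClosed Ω] (a : Spec (CommRingCat.of Ω) ⟶ U) : i.finrank (pt (a ≫ i)) = 1 := by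
  classical
  have h := sum_wt i (a ≫ i)
  rw [Finset.sum_eq_single (⟨a, rfl⟩ : fLifts i (a ≫ i))
    (fun b _ hb => absurd (Subtype.ext ((cancel_mono i).1 b.2)) hb)
    (fun hn => absurd (Finset.mem_univ _) hn)] at h
  rw [wt_eq, lenFib_eq_one_of_map_eq _ (map_maximalIdeal_stalkMap i (pt a)), insDeg_eq_one] at h
  exact_mod_cast h.symm

variable (Tr : ∀ ⦃X S : Scheme.{u}⦄ (f : X ⟶ S) [IsFinite f] [Flat f] [LocallyOfFinitePresentation f],
    EtCoh.pull f ⋙ EtCoh.push f ⟶ 𝟭 (EtCoh.Ab S))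
  (hbc : ∀ ⦃X S X' S' : Scheme.{u}⦄ (f : X ⟶ S) (g : S' ⟶ S) (f' : X' ⟶ S') (g' : X' ⟶ X)
      (hc : IsPullback g' f' f g) [IsFinite f] [Flat f] [LocallyOfFinitePresentation f]
      [IsFinite f'] [Flat f'] [LocallyOfFinitePresentation f'] (F : EtCoh.Ab S),
    EtCoh.baseChange0 f g f' g' hc.w ((EtCoh.pull f).obj F) ≫
      (EtCoh.push f').map ((EtCore.pullComp g' f).inv.app F ≫ (EtCore.pullCongr hc.w).hom.app F ≫
        (EtCore.pullComp f' g).hom.app F) ≫ (Tr f').app ((EtCoh.pull g).obj F) =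
      (EtCoh.pull g).map ((Tr f).app F))
  (hco : ∀ ⦃X Y S : Scheme.{u}⦄ (h : X ⟶ Y) (g : Y ⟶ S) [IsFinite h] [Flat h] [LocallyOfFinitePresentation h]
      [IsFinite g] [Flat g] [LocallyOfFinitePresentation g]
      [IsFinite (h ≫ g)] [Flat (h ≫ g)] [LocallyOfFinitePresentation (h ≫ g)] (F : EtCoh.Ab S),
    (Tr (h ≫ g)).app F =
      (EtCoh.push (h ≫ g)).map ((EtCore.pullComp h g).hom.app F) ≫
        (EtCoh.pushComp g h).inv.app ((EtCoh.pull h).obj ((EtCoh.pull g).obj F)) ≫
        (EtCoh.push g).map ((Tr h).app ((EtCoh.pull g).obj F)) ≫ (Tr g).app F)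
  (hd : ∀ ⦃X S : Scheme.{u}⦄ (f : X ⟶ S) [IsFinite f] [Flat f] [LocallyOfFinitePresentation f] (n : ℕ)
      (_ : ∀ s : S, f.finrank s = n) (F : EtCoh.Ab S),
    (EtCoh.pullPushAdj f).unit.app F ≫ (Tr f).app F = n • 𝟙 F)

/-- `Tr f` and `tr f` agree at `ξ`. -/
def Agrees (f : X ⟶ S) [IsFinite f] [Flat f] [LocallyOfFinitePresentation f]
    {Ω : Type u} [Field Ω] [IsAlgClosed Ω] (ξ : Spec (CommRingCat.of Ω) ⟶ S) : Prop :=
  ∀ F p, (EtCoh.stalk ξ).map ((Tr f).app F) p = (EtCoh.stalk ξ).map ((tr f).app F) p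

include hbc in
theorem agrees_descend {X' S' : Scheme.{u}} {f : X ⟶ S} {g : S' ⟶ S} {f' : X' ⟶ S'} {g' : X' ⟶ X}
    (hc : IsPullback g' f' f g) [IsFinite f] [Flat f] [LocallyOfFinitePresentation f]
    [IsFinite f'] [Flat f'] [LocallyOfFinitePresentation f'] {Ω : Type u} [Field Ω] [IsAlgClosed Ω]
    (η' : Spec (CommRingCat.of Ω) ⟶ S') (h : Agrees Tr f' η') : Agrees Tr f (η' ≫ g) := by
  intro F p
  refine (ConcreteCategory.bijective_of_isIso (stalkPull g η' F)).1 ?_
  refine (stalkPull_nat g η' ((Tr f).app F) p).symm.trans (Eq.trans ?_ (stalkPull_nat g η' ((tr f).app F) p))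
  rw [← hbc f g f' g' hc F, ← tr_baseChange f g f' g' hc F]
  simp only [Functor.map_comp, ConcreteCategory.comp_apply]
  exact h _ _

include hbc hd in
theorem agrees_of_subsingleton (f : X ⟶ S) [IsFinite f] [Flat f] [LocallyOfFinitePresentation f]
    {Ω : Type u} [Field Ω] [IsAlgClosed Ω] (ξ : Spec (CommRingCat.of Ω) ⟶ S) [hs : Subsingleton (fLifts f ξ)] :
    Agrees Tr f ξ := by
  let f' := pullback.snd f ξ
  have hc : IsPullback (pullback.fst f ξ) f' f ξ := IsPullback.of_hasPullback f ξ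
  haveI : IsFinite f' := inferInstance
  haveI : Flat f' := inferInstance
  haveI : LocallyOfFinitePresentation f' := inferInstance
  haveI : Subsingleton (fLifts f (𝟙 _ ≫ ξ)) := by rw [Category.id_comp]; exact hs
  haveI : Subsingleton (fLifts f' (𝟙 (Spec (CommRingCat.of Ω)))) :=
    (bijective_downLift f ξ f' _ (𝟙 _) hc).1.subsingleton
  obtain ⟨n, hn⟩ := finrank_const f'
  have := agrees_descend Tr hbc hc (𝟙 _) fun G p =>
    agree_of_subsingleton f' n G (hd f' n hn G) (unit_tr f' n hn G) (𝟙 _) p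
  rwa [Category.id_comp] at this

include hbc hco hd in
theorem agrees_field {Ω : Type u} [Field Ω] [IsAlgClosed Ω] (f : X ⟶ Spec (CommRingCat.of Ω))
    [IsFinite f] [Flat f] [LocallyOfFinitePresentation f] : Agrees Tr f (𝟙 (Spec (CommRingCat.of Ω))) := by
  classical
  haveI := DegRank.discreteTopology_of_lqf f
  let η := 𝟙 (Spec (CommRingCat.of Ω))
  intro F p
  let G := (EtCoh.pull f).obj F
  have key : ∀ l : fLifts f η, ∃ x : (EtCoh.stalk η).obj ((EtCoh.push f).obj G),
      (EtCoh.stalk η).map ((Tr f).app F) x = (EtCoh.stalk η).map ((tr f).app F) x ∧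
      ∀ l', liftStalk f η l' G x = if l' = l then liftStalk f η l' G p else 0 := by
    intro l
    let V : X.Opens := ⟨{pt l.1}, isOpen_discrete _⟩
    let i := V.ι
    haveI : IsClosedImmersion i := IsClosedImmersion.of_isPreimmersion _ (by
      rw [Scheme.Opens.range_ι]; exact isClosed_discrete _)
    haveI : IsFinite i := inferInstance
    have hi : (Tr i).app G = (tr i).app G := hom_ext_stalk fun Ω' _ _ ζ y =>
      haveI : Subsingleton (fLifts i ζ) :=
        ⟨fun a b => Subtype.ext ((cancel_mono i).1 (a.2.trans b.2.symm))⟩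
      agrees_of_subsingleton Tr hbc hd i ζ G y
    haveI : Subsingleton (fLifts (i ≫ f) η) := ⟨fun a b => Subtype.ext (by
      refine section_ext (i ≫ f) a.1 b.1 a.2 b.2 (Subtype.ext ?_)
      exact (Set.mem_singleton_iff.1 (pt a.1).2).trans (Set.mem_singleton_iff.1 (pt b.1).2).symm)⟩
    obtain ⟨n, hn⟩ := finrank_const (i ≫ f)
    let x₀ : ∀ l' : fLifts f η, (EtCoh.stalk l'.1).obj ((EtCoh.push i).obj ((EtCoh.pull i).obj G)) :=
      fun l' => if l' = l then (EtCoh.stalk l'.1).map ((EtCoh.pullPushAdj i).unit.app G) (liftStalk f η l' G p)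
        else 0
    obtain ⟨x, hx⟩ := (bijective_liftStalk f η ((EtCoh.push i).obj ((EtCoh.pull i).obj G))).2 x₀
    let e := (EtCoh.push (i ≫ f)).map ((EtCore.pullComp i f).hom.app F) ≫
      (EtCoh.pushComp f i).inv.app ((EtCoh.pull i).obj G)
    obtain ⟨y, rfl⟩ := (ConcreteCategory.bijective_of_isIso ((EtCoh.stalk η).map e)).2 x
    refine ⟨(EtCoh.stalk η).map ((EtCoh.push f).map ((tr i).app G)) ((EtCoh.stalk η).map e y), ?_, fun l' => ?_⟩
    · have h1 := agree_of_subsingleton (i ≫ f) n F (hd (i ≫ f) n hn F) (unit_tr (i ≫ f) n hn F) η y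
      rw [hco i f F, tr_comp i f F, hi] at h1
      simp only [e, Functor.map_comp, ConcreteCategory.comp_apply] at h1 ⊢
      exact h1
    · refine (liftStalk_nat f η l' ((tr i).app G) _).trans ?_
      refine ((congrArg ((EtCoh.stalk l'.1).map ((tr i).app G)) (congrFun hx l')).trans
        (stalk_tr i G l'.1 _)).trans ?_
      by_cases h : l' = l
      · subst h
        simp only [x₀, if_true]
        rw [T_unit]
        have hl : pt l'.1 ∈ V := rfl
        have h1 : i.finrank (pt l'.1) = 1 :=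
          (congrArg i.finrank (congrArg pt (liftOpen_ι V l'.1 hl).symm)).trans
            (sum_openImm_lift i (liftOpen V l'.1 hl))
        rw [h1, Nat.cast_one, one_smul]
      · simp only [x₀, if_neg h, map_zero]
  choose x hx hxl using key
  have hp : p = ∑ l : fLifts f η, x l := (bijective_liftStalk f η G).1 (funext fun l' => by
    simp only [map_sum, hxl]
    rw [Finset.sum_ite_eq Finset.univ l' (fun _ => liftStalk f η l' G p), if_pos (Finset.mem_univ _)])
  rw [hp, map_sum, map_sum]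
  exact Finset.sum_congr rfl fun l _ => hx l

include hbc hco hd in
theorem eq_tr (f : X ⟶ S) [IsFinite f] [Flat f] [LocallyOfFinitePresentation f] : Tr f = tr f := by
  ext1
  ext1 F
  refine hom_ext_stalk fun Ω _ _ ξ p => ?_
  let f' := pullback.snd f ξ
  haveI : IsFinite f' := inferInstance
  haveI : Flat f' := inferInstance
  haveI : LocallyOfFinitePresentation f' := inferInstance
  have := agrees_descend Tr hbc (IsPullback.of_hasPullback f ξ) (𝟙 _) (agrees_field Tr hbc hco hd f')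
  rw [Category.id_comp] at this
  exact this F p

end Groth.Agent.FinTrace9

end
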